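import Cfsg.Agent.MulTw.E6P

set_option autoImplicit false
set_option maxRecDepth 100000

/-!
Tables for the unipotent subgroup of the twisted group of type E6.
-/

namespace Cfsg.Agent.MulTw.E6

open Cfsg.Lie Cfsg.Agent.Chev Cfsg.Agent.ChevGrp Cfsg.Agent.ChevGrp.DData Cfsg.Agent.ChevWeyl Cfsg.Agent.ChevTw
open Cfsg.Agent.Tw3

/-- a convex order of the positive roots of the twisted group -/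
def ordT : List ℕ := [33, 25, 35, 41, 34, 43, 37, 42, 44, 46, 28, 39, 36, 45, 47, 40, 38, 30, 32, 26, 29, 31, 27, 24]
/-- the inverse of the order -/
def posT : List ℕ := [0, 0, 0, 0, 0, 0, 0, 0, 0, 0, 0, 0, 0, 0, 0, 0, 0, 0, 0, 0, 0, 0, 0, 0, 23, 1, 19, 22, 10, 20, 17, 21, 18, 0, 4, 2,
  12, 6, 16, 11, 15, 3, 7, 5, 8, 13, 9, 14]
/-- the members of the classes -/
def memT : List (List ℕ) := [[36, 56], [39], [41, 58], [60], [38, 57], [65], [45, 59], [63], [66, 68], [70], [40, 43], [54, 64], [49, 61], [69],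
  [71], [55, 67], [52, 62], [44], [53], [47], [48, 50], [51], [37, 42], [46]]
/-- the functionals -/
def aT : List (List ℤ) := [[0, 2, 1, 2], [-2, 4, 0, 5], [-6, 8, -2, 11], [-10, 12, -4, 17], [-2, 2, -1, 3], [-16, 14, -9, 22], [-10, 8, -6,
  13], [-14, 10, -9, 17], [-20, 14, -13, 24], [-26, 18, -17, 31], [-6, 4, -4, 7], [-16, 10, -11, 18], [-10, 6, -7,
  11], [-24, 14, -17, 26], [-30, 16, -22, 31], [-4, 2, -3, 4], [-14, 6, -11, 13], [-10, 4, -8, 9], [-16, 6, -13, 14],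
  [-6, 2, -5, 5], [-10, 2, -9, 7], [-14, 2, -13, 9], [-2, 0, -2, 1], [-4, -2, -5, 0]]
/-- the torus elements -/
def kdT : List (List (List ℤ)) := [[[0, 0, 0, 0, 0], [2, 0, 0, 0, -1], [1, -1, -2, 0, 0], [2, 0, 0, 0, -1], [1, -1, -2, 0, 0], [2, 0, 0, -1, 0], [2, 0,
  0, 0, -1], [2, 0, 0, -1, 0], [1, -1, -2, 0, 0], [2, 0, 0, -1, 0], [1, -1, -2, 0, 0], [2, 0, 0, -1, 0], [1, -1, -2,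
  0, 0], [2, 0, 0, -1, 0], [2, 0, 0, 0, -1], [1, -1, -2, 0, 0], [2, 0, 0, -1, 0], [2, 0, 0, 0, -1], [2, 0, 0, -1, 0],
  [2, 0, 0, -1, 0], [1, -1, -2, 0, 0], [2, 0, 0, -1, 0], [1, -1, -2, 0, 0], [2, 0, 0, -1, 0]], [[0, 0, 0, 0, 0], [0,
  0, 0, 0, 0], [1, -1, 0, 0, 0], [3, -1, 0, 0, 0], [1, -1, 0, 0, 0], [2, 0, -1, -1, 0], [1, -1, 0, 0, 0], [2, 0, -1,
  -1, 0], [1, -1, 0, 0, 0], [2, 0, -1, -1, 0], [1, -1, 0, 0, 0], [1, -1, 0, 0, 0], [1, -1, 0, 0, 0], [2, 0, -1, -1,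
  0], [3, 0, -1, 0, 1], [1, -1, 0, 0, 0], [1, -1, 0, 0, 0], [3, -1, 0, 0, 0], [2, 0, -1, -1, 0], [2, 0, -1, -1, 0],
  [1, -1, 0, 0, 0], [2, 0, -1, -1, 0], [1, -1, 0, 0, 0], [2, 0, -1, -1, 0]], [[0, 0, 0, 0, 0], [0, 0, 0, 0, 0], [0,
  0, 0, 0, 0], [2, -1, 0, 0, -1], [2, -1, 0, 0, -1], [2, -1, 0, 1, 0], [1, -1, 1, 0, 0], [2, 0, -1, -1, 0], [1, -1,
  1, 0, 0], [2, -1, 0, 0, -1], [1, -1, 1, 0, 0], [1, -1, 1, 0, 0], [2, -1, 0, 1, 0], [2, -1, 0, 1, 0], [2, -1, 0, 0,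
  -1], [2, -1, 0, 0, -1], [1, -1, 1, 0, 0], [2, 0, 0, -1, -1], [2, 0, -1, -1, 0], [2, -1, 0, 0, -1], [1, -1, 1, 0,
  0], [2, -1, 0, 0, -1], [1, -1, 1, 0, 0], [2, -1, 0, 1, 0]], [[0, 0, 0, 0, 0], [0, 0, 0, 0, 0], [0, 0, 0, 0, 0], [0,
  0, 0, 0, 0], [1, -1, 0, 0, 0], [2, 0, 0, -1, 0], [1, -1, 0, 0, 0], [2, 0, 0, -1, 0], [1, -1, 0, 0, 0], [2, 0, 0,
  -1, 0], [1, -1, 0, 0, 0], [1, -1, 0, 0, 0], [1, -1, 0, 0, 0], [2, 0, 0, -1, 0], [3, -1, 0, 0, -1], [1, -1, 0, 0,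
  0], [1, -1, 0, 0, 0], [3, 0, -1, 0, 0], [2, 0, 0, -1, 0], [2, 0, 0, -1, 0], [1, -1, 0, 0, 0], [2, 0, 0, -1, 0], [1,
  -1, 0, 0, 0], [2, 0, 0, -1, 0]], [[0, 0, 0, 0, 0], [0, 0, 0, 0, 0], [0, 0, 0, 0, 0], [0, 0, 0, 0, 0], [0, 0, 0, 0,
  0], [2, 0, -1, -1, 0], [1, -1, 1, 0, 0], [2, 0, 0, 0, -1], [1, -1, 1, 0, 0], [2, 0, 0, 0, -1], [1, -1, 1, 0, 0],
  [1, -1, 1, 0, 0], [2, 0, 0, 0, -1], [2, -1, 0, -1, 0], [2, 0, 0, 0, -1], [2, -1, 0, -1, 0], [1, -1, 1, 0, 0], [2,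
  0, 0, 0, -1], [2, -1, 0, -1, 0], [2, 0, 0, 0, -1], [1, -1, 1, 0, 0], [2, 0, 0, 0, -1], [1, -1, 1, 0, 0], [2, -1, 0,
  -1, 0]], [[0, 0, 0, 0, 0], [0, 0, 0, 0, 0], [0, 0, 0, 0, 0], [0, 0, 0, 0, 0], [0, 0, 0, 0, 0], [0, 0, 0, 0, 0], [1,
  -1, 0, 0, 0], [2, 0, 0, 0, -1], [1, -1, 0, 0, 0], [2, 0, 0, 0, -1], [1, -1, 0, 0, 0], [1, -1, 0, 0, 0], [1, -1, 0,
  0, 0], [3, -1, -1, 0, 0], [2, 0, 0, 0, -1], [1, -1, 0, 0, 0], [1, -1, 0, 0, 0], [2, 0, 0, 0, -1], [3, -1, -1, 0,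
  0], [2, 0, 0, 0, -1], [1, -1, 0, 0, 0], [2, 0, 0, 0, -1], [1, -1, 0, 0, 0], [3, -1, 0, 1, 0]], [[0, 0, 0, 0, 0],
  [0, 0, 0, 0, 0], [0, 0, 0, 0, 0], [0, 0, 0, 0, 0], [0, 0, 0, 0, 0], [0, 0, 0, 0, 0], [0, 0, 0, 0, 0], [2, 0, 0, -1,
  0], [1, -1, -2, 0, 0], [2, 0, 0, -1, 0], [1, -1, -2, 0, 0], [2, 0, 0, -1, 0], [1, -1, -2, 0, 0], [2, 0, 0, -1, 0],
  [2, 0, -1, 0, -1], [1, -1, -2, 0, 0], [2, 0, 0, -1, 0], [2, 0, -1, 0, -1], [2, 0, 0, -1, 0], [2, 0, 0, -1, 0], [1,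
  -1, -2, 0, 0], [2, 0, 0, -1, 0], [1, -1, -2, 0, 0], [2, 0, 0, -1, 0]], [[0, 0, 0, 0, 0], [0, 0, 0, 0, 0], [0, 0, 0,
  0, 0], [0, 0, 0, 0, 0], [0, 0, 0, 0, 0], [0, 0, 0, 0, 0], [0, 0, 0, 0, 0], [0, 0, 0, 0, 0], [1, -1, 0, 0, 0], [3,
  -1, 0, -1, 0], [1, -1, 0, 0, 0], [1, -1, 0, 0, 0], [1, -1, 0, 0, 0], [2, 0, 0, -1, -1], [2, 0, 0, -1, -1], [1, -1,
  0, 0, 0], [1, -1, 0, 0, 0], [2, 0, 0, -1, -1], [2, 0, 0, -1, -1], [3, 0, -1, 0, 0], [1, -1, 0, 0, 0], [3, 0, -1, 0,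
  0], [1, -1, 0, 0, 0], [2, 0, 0, -1, -1]], [[0, 0, 0, 0, 0], [0, 0, 0, 0, 0], [0, 0, 0, 0, 0], [0, 0, 0, 0, 0], [0,
  0, 0, 0, 0], [0, 0, 0, 0, 0], [0, 0, 0, 0, 0], [0, 0, 0, 0, 0], [0, 0, 0, 0, 0], [2, 0, 0, -1, 0], [2, 0, 0, -1,
  0], [1, -2, -1, 0, 0], [1, -2, -1, 0, 0], [2, 0, 0, -1, 0], [2, 0, 0, 0, -1], [1, -2, -1, 0, 0], [1, -2, -1, 0, 0],
  [2, 0, 0, 0, -1], [2, 0, 0, -1, 0], [2, 0, 0, -1, 0], [2, 0, 0, 0, -1], [2, 0, 0, -1, 0], [2, 0, 0, -1, 0], [2, 0,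
  0, -1, 0]], [[0, 0, 0, 0, 0], [0, 0, 0, 0, 0], [0, 0, 0, 0, 0], [0, 0, 0, 0, 0], [0, 0, 0, 0, 0], [0, 0, 0, 0, 0],
  [0, 0, 0, 0, 0], [0, 0, 0, 0, 0], [0, 0, 0, 0, 0], [0, 0, 0, 0, 0], [1, -1, 0, 0, 0], [1, -1, 0, 0, 0], [1, -1, 0,
  0, 0], [2, 0, 0, -1, -1], [2, 0, 0, -1, -1], [1, -1, 0, 0, 0], [1, -1, 0, 0, 0], [2, 0, 0, -1, -1], [2, 0, 0, -1,
  -1], [3, 0, -1, 0, 0], [1, -1, 0, 0, 0], [3, -1, 0, 0, 0], [1, -1, 0, 0, 0], [2, 0, 0, -1, -1]], [[0, 0, 0, 0, 0],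
  [0, 0, 0, 0, 0], [0, 0, 0, 0, 0], [0, 0, 0, 0, 0], [0, 0, 0, 0, 0], [0, 0, 0, 0, 0], [0, 0, 0, 0, 0], [0, 0, 0, 0,
  0], [0, 0, 0, 0, 0], [0, 0, 0, 0, 0], [0, 0, 0, 0, 0], [1, -2, -1, 0, 0], [1, -2, -1, 0, 0], [2, -1, 0, -1, 0], [2,
  -1, 0, 0, 1], [1, -2, -1, 0, 0], [1, -2, -1, 0, 0], [2, -1, 0, 0, 1], [2, -1, 0, -1, 0], [2, -1, 0, -1, 0], [2, -1,
  0, -1, 0], [2, -1, -1, -1, 0], [2, -1, 0, 0, 1], [2, -1, 0, -1, 0]], [[0, 0, 0, 0, 0], [0, 0, 0, 0, 0], [0, 0, 0,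
  0, 0], [0, 0, 0, 0, 0], [0, 0, 0, 0, 0], [0, 0, 0, 0, 0], [0, 0, 0, 0, 0], [0, 0, 0, 0, 0], [0, 0, 0, 0, 0], [0, 0,
  0, 0, 0], [0, 0, 0, 0, 0], [0, 0, 0, 0, 0], [1, -1, -2, 0, 0], [2, 0, -1, -1, 0], [2, 0, 0, 0, -1], [1, -1, -2, 0,
  0], [2, 0, 0, 0, -1], [2, 0, 0, 0, -1], [2, 0, -1, -1, 0], [2, 0, 0, 0, -1], [1, -1, -2, 0, 0], [2, 0, 0, 0, -1],
  [1, -1, -2, 0, 0], [2, 0, -1, -1, 0]], [[0, 0, 0, 0, 0], [0, 0, 0, 0, 0], [0, 0, 0, 0, 0], [0, 0, 0, 0, 0], [0, 0,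
  0, 0, 0], [0, 0, 0, 0, 0], [0, 0, 0, 0, 0], [0, 0, 0, 0, 0], [0, 0, 0, 0, 0], [0, 0, 0, 0, 0], [0, 0, 0, 0, 0], [0,
  0, 0, 0, 0], [0, 0, 0, 0, 0], [2, 0, 0, -1, 0], [2, -1, 0, 0, 1], [2, -1, 0, 0, 1], [1, -1, 1, 0, 0], [2, -1, 0, 0,
  1], [2, 0, 0, -1, 0], [2, 0, 0, -1, 0], [1, -1, 1, 0, 0], [2, 0, 0, -1, 0], [1, -1, 1, 0, 0], [2, 0, 0, -1, 0]],
  [[0, 0, 0, 0, 0], [0, 0, 0, 0, 0], [0, 0, 0, 0, 0], [0, 0, 0, 0, 0], [0, 0, 0, 0, 0], [0, 0, 0, 0, 0], [0, 0, 0, 0,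
  0], [0, 0, 0, 0, 0], [0, 0, 0, 0, 0], [0, 0, 0, 0, 0], [0, 0, 0, 0, 0], [0, 0, 0, 0, 0], [0, 0, 0, 0, 0], [0, 0, 0,
  0, 0], [2, 0, 0, 0, -1], [1, -1, 0, 0, 0], [1, -1, 0, 0, 0], [2, 0, 0, 0, -1], [3, -1, 0, 0, 0], [2, 0, 0, 0, -1],
  [1, -1, 0, 0, 0], [2, 0, 0, 0, -1], [1, -1, 0, 0, 0], [3, 0, -1, -1, 0]], [[0, 0, 0, 0, 0], [0, 0, 0, 0, 0], [0, 0,
  0, 0, 0], [0, 0, 0, 0, 0], [0, 0, 0, 0, 0], [0, 0, 0, 0, 0], [0, 0, 0, 0, 0], [0, 0, 0, 0, 0], [0, 0, 0, 0, 0], [0,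
  0, 0, 0, 0], [0, 0, 0, 0, 0], [0, 0, 0, 0, 0], [0, 0, 0, 0, 0], [0, 0, 0, 0, 0], [0, 0, 0, 0, 0], [1, -1, 0, 0, 0],
  [1, -1, 0, 0, 0], [3, -1, 0, 0, 0], [2, 0, 0, -1, 0], [2, 0, 0, -1, 0], [1, -1, 0, 0, 0], [2, 0, 0, -1, 0], [1, -1,
  0, 0, 0], [2, 0, 0, -1, 0]], [[0, 0, 0, 0, 0], [0, 0, 0, 0, 0], [0, 0, 0, 0, 0], [0, 0, 0, 0, 0], [0, 0, 0, 0, 0],
  [0, 0, 0, 0, 0], [0, 0, 0, 0, 0], [0, 0, 0, 0, 0], [0, 0, 0, 0, 0], [0, 0, 0, 0, 0], [0, 0, 0, 0, 0], [0, 0, 0, 0,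
  0], [0, 0, 0, 0, 0], [0, 0, 0, 0, 0], [0, 0, 0, 0, 0], [0, 0, 0, 0, 0], [1, -1, 1, 0, 0], [2, 0, 0, 0, -1], [2, 0,
  0, -1, 0], [2, 0, 0, -1, 0], [1, -1, 1, 0, 0], [2, 0, 0, -1, 0], [1, -1, 1, 0, 0], [2, 0, 0, -1, 0]], [[0, 0, 0, 0,
  0], [0, 0, 0, 0, 0], [0, 0, 0, 0, 0], [0, 0, 0, 0, 0], [0, 0, 0, 0, 0], [0, 0, 0, 0, 0], [0, 0, 0, 0, 0], [0, 0, 0,
  0, 0], [0, 0, 0, 0, 0], [0, 0, 0, 0, 0], [0, 0, 0, 0, 0], [0, 0, 0, 0, 0], [0, 0, 0, 0, 0], [0, 0, 0, 0, 0], [0, 0,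
  0, 0, 0], [0, 0, 0, 0, 0], [0, 0, 0, 0, 0], [2, 0, 0, -1, -1], [2, 0, -1, -1, 0], [2, 0, -1, -1, 0], [1, -1, -2, 0,
  0], [2, 0, -1, -1, 0], [1, -1, -2, 0, 0], [2, 0, -1, -1, 0]], [[0, 0, 0, 0, 0], [0, 0, 0, 0, 0], [0, 0, 0, 0, 0],
  [0, 0, 0, 0, 0], [0, 0, 0, 0, 0], [0, 0, 0, 0, 0], [0, 0, 0, 0, 0], [0, 0, 0, 0, 0], [0, 0, 0, 0, 0], [0, 0, 0, 0,
  0], [0, 0, 0, 0, 0], [0, 0, 0, 0, 0], [0, 0, 0, 0, 0], [0, 0, 0, 0, 0], [0, 0, 0, 0, 0], [0, 0, 0, 0, 0], [0, 0, 0,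
  0, 0], [0, 0, 0, 0, 0], [2, 0, 0, -1, 0], [2, 0, 0, -1, 0], [1, -1, 0, 0, 0], [2, 0, 0, -1, 0], [1, -1, 0, 0, 0],
  [2, 0, 0, -1, 0]], [[0, 0, 0, 0, 0], [0, 0, 0, 0, 0], [0, 0, 0, 0, 0], [0, 0, 0, 0, 0], [0, 0, 0, 0, 0], [0, 0, 0,
  0, 0], [0, 0, 0, 0, 0], [0, 0, 0, 0, 0], [0, 0, 0, 0, 0], [0, 0, 0, 0, 0], [0, 0, 0, 0, 0], [0, 0, 0, 0, 0], [0, 0,
  0, 0, 0], [0, 0, 0, 0, 0], [0, 0, 0, 0, 0], [0, 0, 0, 0, 0], [0, 0, 0, 0, 0], [0, 0, 0, 0, 0], [0, 0, 0, 0, 0], [2,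
  0, 0, 0, -1], [1, -1, 0, 0, 0], [2, 0, 0, 0, -1], [1, -1, 0, 0, 0], [3, -1, 0, -1, 0]], [[0, 0, 0, 0, 0], [0, 0, 0,
  0, 0], [0, 0, 0, 0, 0], [0, 0, 0, 0, 0], [0, 0, 0, 0, 0], [0, 0, 0, 0, 0], [0, 0, 0, 0, 0], [0, 0, 0, 0, 0], [0, 0,
  0, 0, 0], [0, 0, 0, 0, 0], [0, 0, 0, 0, 0], [0, 0, 0, 0, 0], [0, 0, 0, 0, 0], [0, 0, 0, 0, 0], [0, 0, 0, 0, 0], [0,
  0, 0, 0, 0], [0, 0, 0, 0, 0], [0, 0, 0, 0, 0], [0, 0, 0, 0, 0], [0, 0, 0, 0, 0], [1, -1, 0, 0, 0], [3, -1, 0, 0,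
  0], [1, -1, 0, 0, 0], [2, 0, -1, -1, -1]], [[0, 0, 0, 0, 0], [0, 0, 0, 0, 0], [0, 0, 0, 0, 0], [0, 0, 0, 0, 0], [0,
  0, 0, 0, 0], [0, 0, 0, 0, 0], [0, 0, 0, 0, 0], [0, 0, 0, 0, 0], [0, 0, 0, 0, 0], [0, 0, 0, 0, 0], [0, 0, 0, 0, 0],
  [0, 0, 0, 0, 0], [0, 0, 0, 0, 0], [0, 0, 0, 0, 0], [0, 0, 0, 0, 0], [0, 0, 0, 0, 0], [0, 0, 0, 0, 0], [0, 0, 0, 0,
  0], [0, 0, 0, 0, 0], [0, 0, 0, 0, 0], [0, 0, 0, 0, 0], [2, 0, 0, -1, 0], [2, 0, 0, -1, 0], [2, 0, 0, -1, 0]], [[0,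
  0, 0, 0, 0], [0, 0, 0, 0, 0], [0, 0, 0, 0, 0], [0, 0, 0, 0, 0], [0, 0, 0, 0, 0], [0, 0, 0, 0, 0], [0, 0, 0, 0, 0],
  [0, 0, 0, 0, 0], [0, 0, 0, 0, 0], [0, 0, 0, 0, 0], [0, 0, 0, 0, 0], [0, 0, 0, 0, 0], [0, 0, 0, 0, 0], [0, 0, 0, 0,
  0], [0, 0, 0, 0, 0], [0, 0, 0, 0, 0], [0, 0, 0, 0, 0], [0, 0, 0, 0, 0], [0, 0, 0, 0, 0], [0, 0, 0, 0, 0], [0, 0, 0,
  0, 0], [0, 0, 0, 0, 0], [1, -1, 0, 0, 0], [2, 0, 0, -1, -1]], [[0, 0, 0, 0, 0], [0, 0, 0, 0, 0], [0, 0, 0, 0, 0],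
  [0, 0, 0, 0, 0], [0, 0, 0, 0, 0], [0, 0, 0, 0, 0], [0, 0, 0, 0, 0], [0, 0, 0, 0, 0], [0, 0, 0, 0, 0], [0, 0, 0, 0,
  0], [0, 0, 0, 0, 0], [0, 0, 0, 0, 0], [0, 0, 0, 0, 0], [0, 0, 0, 0, 0], [0, 0, 0, 0, 0], [0, 0, 0, 0, 0], [0, 0, 0,
  0, 0], [0, 0, 0, 0, 0], [0, 0, 0, 0, 0], [0, 0, 0, 0, 0], [0, 0, 0, 0, 0], [0, 0, 0, 0, 0], [0, 0, 0, 0, 0], [2,
  -1, 0, 1, 0]], [[0, 0, 0, 0, 0], [0, 0, 0, 0, 0], [0, 0, 0, 0, 0], [0, 0, 0, 0, 0], [0, 0, 0, 0, 0], [0, 0, 0, 0,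
  0], [0, 0, 0, 0, 0], [0, 0, 0, 0, 0], [0, 0, 0, 0, 0], [0, 0, 0, 0, 0], [0, 0, 0, 0, 0], [0, 0, 0, 0, 0], [0, 0, 0,
  0, 0], [0, 0, 0, 0, 0], [0, 0, 0, 0, 0], [0, 0, 0, 0, 0], [0, 0, 0, 0, 0], [0, 0, 0, 0, 0], [0, 0, 0, 0, 0], [0, 0,
  0, 0, 0], [0, 0, 0, 0, 0], [0, 0, 0, 0, 0], [0, 0, 0, 0, 0], [0, 0, 0, 0, 0]]]

def ordE (k : ℕ) : ℕ := ordT.getD k 24
/-- the index of a root -/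
def idx (s : ℕ) : ℕ := posT.getD (cE6 s) 0
def mb (k : ℕ) : List ℕ := memT.getD k []
def bkE (i : ℕ) : ℕ := match i with
  | 0 => 0
  | 1 => 3
  | 2 => 1
  | 3 => 2
  | 4 => 1
  | _ => 0
def aK (k i : ℕ) : ℤ := (aT.getD k []).getD (bkE i) 0
def kd (i j : ℕ) : List ℤ := (kdT.getD i []).getD j []
/-- the parameter `m` of the torus element of a pair -/
def kp (i j m : ℕ) : ℤ := (kd i j).getD m 0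
def ct (i s : ℕ) : ℤ := chevE6.cartan i s
def ex1 (m0 m1 : ℤ) (s : ℕ) : ℤ := m0 * (ct 0 s - ct 5 s) + m1 * (ct 2 s - ct 4 s)
def ex2 (m0 m1 m2 m3 : ℤ) (s : ℕ) : ℤ := m0 * (ct 0 s + ct 5 s) + m1 * (ct 2 s + ct 4 s) + m2 * ct 3 s + m3 * ct 1 s
def ex3 (m0 m1 m2 m3 : ℤ) (s : ℕ) : ℤ := m0 * ct 0 s + m1 * ct 2 s + m2 * ct 3 s + m3 * ct 1 s

theorem ordE_spec : ∀ k < 24, 24 ≤ ordE k ∧ ordE k < 48 ∧ posT.getD (ordE k) 0 = k := by decide +kernel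
theorem cls_of_idx : ∀ s < 72, 36 ≤ s → idx s < 24 ∧ ordE (idx s) = cE6 s := by decide +kernel
theorem mem_mb : ∀ s < 72, 36 ≤ s → s ∈ mb (idx s) := by decide +kernel
theorem mb_spec : ∀ k < 24, ∀ s ∈ mb k, s < 72 ∧ 36 ≤ s ∧ idx s = k := by decide +kernel
theorem fn_spec : ∀ k < 24, ∀ s < 72, 36 ≤ s → ((0 < Grade.fn chevE6 (aK k) s ↔ k < idx s) ∧
    (idx s = k → Grade.fn chevE6 (aK k) s = 0)) := by decide +kernel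
theorem pos_spec : ∀ s < 72, (0 < Grade.fn chevE6 (fun _ => 1) s ↔ 36 ≤ s) := by decide +kernel

/-- the conditions on the torus element of a pair -/
def okPair (i j : ℕ) : Bool :=
  let m0 := kp i j 1
  let m1 := kp i j 2
  let m2 := kp i j 3
  let m3 := kp i j 4
  (kp i j 0 == 1 && (mb i).all (fun s => ex1 m0 m1 s == 0) &&
    (mb j).all (fun s => ex1 m0 m1 s == 1 || ex1 m0 m1 s == 2 || ex1 m0 m1 s == 3 ||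
      ex1 m0 m1 s == -1 || ex1 m0 m1 s == -2 || ex1 m0 m1 s == -3)) ||
  (kp i j 0 == 2 && (mb i).all (fun s => ex2 m0 m1 m2 m3 s == 0) &&
    (mb j).all (fun s => ex2 m0 m1 m2 m3 s == 1 || ex2 m0 m1 m2 m3 s == -1)) ||
  (kp i j 0 == 3 && (mb i).all (fun s => ex3 m0 m1 m2 m3 s == 0 && ct 0 s == ct 5 s && ct 2 s == ct 4 s) &&
    (mb j).all (fun s => (ex3 m0 m1 m2 m3 s == 1 || ex3 m0 m1 m2 m3 s == -1) && ct 0 s == ct 5 s && ct 2 s == ct 4 s))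

theorem okPair_all : ∀ i < 24, ∀ j < 24, i < j → okPair i j = true := by decide +kernel

/-- the classes of a pair commute -/
theorem mb_comm : ∀ k < 24, ∀ s ∈ mb k, ∀ s' ∈ mb k, s ≠ s' → s' ≠ chevE6.neg s ∧ chevE6.commTerms s s' = [] := by
  decide +kernel

/-- the members of a class -/
theorem mb_two : ∀ k < 24, ∃ s ∈ mb k, ∃ s' ∈ mb k, ∀ s'' ∈ mb k, s'' = s ∨ s'' = s' := by decide +kernel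

end Cfsg.Agent.MulTw.E6
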